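import Groth.Agent.RefOne.Normal
import Groth.Agent.S3841
import Groth.Agent.RegLocal.UFD
import Groth.Agent.CAlgBasics.Reflexive
import Groth.Prelude.Def_TorSh

/-!
# Normality of reflexive sheaves on regular schemes
-/

set_option autoImplicit false
set_option backward.isDefEq.respectTransparency false
set_option linter.style.haveILetI false
universe u
open CategoryTheory CategoryTheory.Limits AlgebraicGeometry TopologicalSpace Module
open Groth.Agent.PullbackMod Groth.Agent.RefOne

noncomputable section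

namespace Groth.Agent.NormalRefLib

variable {X : Scheme.{u}} [IsIntegral X] [IsLocallyNoetherian X]

theorem normal_of_regular (hreg : ∀ x : X, IsRegularLocalRing (X.presheaf.stalk x)) : Pi1.IsNormalScheme X :=
  S3841.normal_of_ufd fun x =>
    haveI := hreg x
    RegLocal.ufd _

omit [IsLocallyNoetherian X] in
theorem generic_mem {U : X.Opens} {x : X} (hx : x ∈ U) : genericPoint X ∈ U :=
  ((genericPoint_spec ↥X).specializes (Set.mem_univ x)).mem_open U.2 hx

/-- A subopen whose complement has codimension two contains the generic point. -/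
theorem generic_mem_of_big {U V : X.Opens}
    (hd : ∀ x : X, x ∈ U → x ∉ V → (2 : WithBot ℕ∞) ≤ ringKrullDim (X.presheaf.stalk x))
    {x : X} (hx : x ∈ U) : genericPoint X ∈ V := by
  by_contra hη
  have h := hd _ (generic_mem hx) hη
  rw [ringKrullDim_eq_zero_of_isField isField_gen] at h
  exact absurd h (by decide)

omit [IsLocallyNoetherian X] in
theorem isTorsionFree_iff_inj (F : X.Modules) [Coh.IsQCoh F] (h : TorSh.IsTorsionFree F) (x : X) :
    Function.Injective (toGen F x) := by
  intro m m' he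
  refine sub_eq_zero.1 ?_
  obtain ⟨a, ha, ham⟩ := toGen_eq_zero (F := F) (m := m - m') (show toGen F x (m - m') = 0 by
    rw [show toGen F x (m - m') = toGen F x m - toGen F x m' from map_sub _ m m', he, sub_self])
  haveI := h x
  exact (smul_eq_zero.1 ham).resolve_left ha

omit [IsLocallyNoetherian X] in
/-- Sections of a torsion-free module agreeing on a nonempty open agree. -/
theorem section_ext_of_generic {F : X.Modules} (hinj : ∀ x, Function.Injective (toGen F x)) {U : X.Opens}
    {s t : Γ(F, U)}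
    (h : ∀ (x : X) (hx : x ∈ U), F.presheaf.germ U _ (generic_mem hx) s = F.presheaf.germ U _ (generic_mem hx) t) :
    s = t := by
  refine TopCat.Presheaf.section_ext ⟨F.presheaf, F.isSheaf⟩ U s t fun x hx => hinj x ?_
  show toGen F x (F.presheaf.germ U x hx s) = toGen F x (F.presheaf.germ U x hx t)
  rw [toGen_germ, toGen_germ]
  exact h x hx

theorem restrict_injective {F : X.Modules} (hinj : ∀ x, Function.Injective (toGen F x)) {U V : X.Opens} (hVU : V ≤ U)
    (hd : ∀ x : X, x ∈ U → x ∉ V → (2 : WithBot ℕ∞) ≤ ringKrullDim (X.presheaf.stalk x)) :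
    Function.Injective (F.presheaf.map (homOfLE hVU).op) := by
  intro s t hst
  refine section_ext_of_generic hinj fun x hx => ?_
  have hη := generic_mem_of_big hd hx
  rw [← TopCat.Presheaf.germ_res_apply F.presheaf (homOfLE hVU) _ hη s, hst, TopCat.Presheaf.germ_res_apply]

/-- Sections of a reflexive module extend over closed subsets of codimension two. -/
theorem bijective_res (hX : Pi1.IsNormalScheme X) {F : X.Modules} (hF : Coh.IsCoh F) (hr : RefHull.IsReflexive F)
    (U V : X.Opens) (hVU : V ≤ U)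
    (hd : ∀ x : X, x ∈ U → x ∉ V → (2 : WithBot ℕ∞) ≤ ringKrullDim (X.presheaf.stalk x)) :
    Function.Bijective (F.presheaf.map (homOfLE hVU).op) := by
  haveI := hF.1
  have hr' := (isReflexive_iff hF).1 hr
  have hinj : ∀ x, Function.Injective (toGen F x) := fun x => toGen_injective (hr' x)
  refine ⟨restrict_injective hinj hVU hd, fun s => ?_⟩
  have key : ∀ x : U, ∃ (O : X.Opens) (t : Γ(F, O)), x.1 ∈ O ∧ O ≤ U ∧
      ∀ (hO : genericPoint X ∈ O) (hV : genericPoint X ∈ V),
        F.presheaf.germ O _ hO t = F.presheaf.germ V _ hV s := by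
    intro x
    have hη := generic_mem_of_big hd x.2
    obtain ⟨w, hw⟩ := mem_range_of_codim_one hX hF (hr' x) (F.presheaf.germ V _ hη s) fun y hy hy1 => by
      have hyU : y ∈ U := hy.mem_open U.2 x.2
      have hyV : y ∈ V := by
        by_contra hn
        have h := hd y hyU hn
        rw [ringKrullDim_stalk_eq_coheight, hy1] at h
        exact absurd h (by decide)
      exact ⟨F.presheaf.germ V y hyV s, toGen_germ F y hyV s⟩
    obtain ⟨O, hxO, t, rfl⟩ := TopCat.Presheaf.exists_germ_eq F.presheaf w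
    refine ⟨O ⊓ U, F.presheaf.map (homOfLE inf_le_left).op t, ⟨hxO, x.2⟩, inf_le_right, fun hO hV => ?_⟩
    rw [TopCat.Presheaf.germ_res_apply, ← hw, toGen_germ]
  choose O t hxO hOU ht using key
  obtain ⟨g, hg, -⟩ := TopCat.Sheaf.existsUnique_gluing' (⟨F.presheaf, F.isSheaf⟩ : TopCat.Sheaf Ab.{u} X.carrier)
    O U (fun i => homOfLE (hOU i)) (fun y hy => Opens.mem_iSup.2 ⟨⟨y, hy⟩, hxO ⟨y, hy⟩⟩) t
    (fun i j => section_ext_of_generic hinj fun y hy => by
      rw [show ∀ (a : Γ(F, O i)), F.presheaf.germ (O i ⊓ O j) (genericPoint X) (generic_mem hy)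
        (F.presheaf.map (Opens.infLELeft (O i) (O j)).op a) = F.presheaf.germ (O i) _ (generic_mem hy.1) a from
          fun a => TopCat.Presheaf.germ_res_apply _ _ _ _ _]
      rw [show ∀ (a : Γ(F, O j)), F.presheaf.germ (O i ⊓ O j) (genericPoint X) (generic_mem hy)
        (F.presheaf.map (Opens.infLERight (O i) (O j)).op a) = F.presheaf.germ (O j) _ (generic_mem hy.2) a from
          fun a => TopCat.Presheaf.germ_res_apply _ _ _ _ _]
      rw [ht i _ (generic_mem_of_big hd (hOU i hy.1)), ht j _ (generic_mem_of_big hd (hOU i hy.1))])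
  refine ⟨g, section_ext_of_generic hinj fun x hx => ?_⟩
  rw [TopCat.Presheaf.germ_res_apply, ← ht ⟨x, hVU hx⟩ (generic_mem (hxO ⟨x, hVU hx⟩)) (generic_mem hx), ← hg ⟨x, hVU hx⟩]
  exact (TopCat.Presheaf.germ_res_apply _ _ _ _ _).symm

omit [IsIntegral X] [IsLocallyNoetherian X] in
theorem app_res {M N : X.Modules} (φ : M ⟶ N) {U V : X.Opens} (h : V ≤ U) (m : Γ(M, U)) :
    φ.app V (M.presheaf.map (homOfLE h).op m) = N.presheaf.map (homOfLE h).op (φ.app U m) :=
  ConcreteCategory.congr_hom (φ.mapPresheaf.naturality (homOfLE h).op) m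

/-- The kernel of a map from a reflexive module to a torsion-free one is normal. -/
theorem bijective_res_ker (hX : Pi1.IsNormalScheme X) {E Q : X.Modules} (hE : Coh.IsCoh E) (hr : RefHull.IsReflexive E)
    [Coh.IsQCoh Q] (hQ : TorSh.IsTorsionFree Q) {F : X.Modules} (i : F ⟶ E) (p : E ⟶ Q)
    (hi : ∀ W, Function.Injective (i.app W)) (hex : ∀ W (e : Γ(E, W)), p.app W e = 0 → ∃ f, i.app W f = e)
    (hip : i ≫ p = 0) (U V : X.Opens) (hVU : V ≤ U)
    (hd : ∀ x : X, x ∈ U → x ∉ V → (2 : WithBot ℕ∞) ≤ ringKrullDim (X.presheaf.stalk x)) :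
    Function.Bijective (F.presheaf.map (homOfLE hVU).op) := by
  have hE' := bijective_res hX hE hr U V hVU hd
  refine ⟨fun a b hab => hi U (hE'.1 ?_), fun s => ?_⟩
  · rw [← app_res, ← app_res, hab]
  · obtain ⟨e, he⟩ := hE'.2 (i.app V s)
    have h0 : p.app U e = 0 := restrict_injective (isTorsionFree_iff_inj Q hQ) hVU hd (by
      rw [map_zero, ← app_res, he]
      exact congrArg (fun φ : F ⟶ Q => φ.app V s) hip)
    obtain ⟨f, hf⟩ := hex U e h0
    exact ⟨f, hi V (by rw [app_res, hf, he])⟩

theorem stalk_bidual_injective {F : X.Modules} (hF : Coh.IsCoh F) (hT : TorSh.IsTorsionFree F) (x : X) :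
    Function.Injective (stalkLin (RefHull.bidualMap F) x) := by
  haveI := hF.1
  haveI := PullbackMod.finite_stalk_of_isFT hF.2 x
  haveI := hT x
  obtain ⟨E, hE⟩ := exists_bidual_equiv hF x
  refine Function.Injective.of_comp (f := ⇑E) ?_
  rw [hE]
  exact CAlgBasics.eval_injective_of_isTorsionFree

theorem isReflexiveAt_of_low (hX : Pi1.IsNormalScheme X) {F : X.Modules} (hF : Coh.IsCoh F) (hT : TorSh.IsTorsionFree F)
    {y : X} (hy : ¬ (2 : WithBot ℕ∞) ≤ ringKrullDim (X.presheaf.stalk y)) : RefHull.IsReflexiveAt F y := by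
  haveI := hF.1
  haveI := PullbackMod.finite_stalk_of_isFT hF.2 y
  haveI := hT y
  rw [ringKrullDim_stalk_eq_coheight] at hy
  haveI : IsPrincipalIdealRing (X.presheaf.stalk y) := by
    rcases eq_or_ne (Order.coheight y) 0 with h0 | h0
    · haveI : Ring.KrullDimLE 0 (X.presheaf.stalk y) :=
        (Ring.krullDimLE_iff).2 (by rw [ringKrullDim_stalk_eq_coheight, h0]; rfl)
      letI := (Ring.KrullDimLE.isField_of_isDomain (R := X.presheaf.stalk y)).toField
      infer_instance
    · haveI := isDVR hX (y := y) (le_antisymm (by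
        by_contra hlt
        have h2 : (2 : ℕ∞) ≤ Order.coheight y := by
          rw [← one_add_one_eq_two]
          exact (ENat.add_one_le_iff (by decide)).2 (not_le.1 hlt)
        exact hy (WithBot.coe_le_coe.2 h2)) (ENat.one_le_iff_ne_zero.2 h0))
      infer_instance
  haveI : Module.Free (X.presheaf.stalk y) (F.presheaf.stalk y) := Module.free_of_finite_type_torsion_free'
  exact inferInstanceAs (Module.IsReflexive (X.presheaf.stalk y) (F.presheaf.stalk y))

/-- A torsion-free normal coherent module is reflexive. -/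
theorem isReflexive_of_normal (hX : Pi1.IsNormalScheme X) {F : X.Modules} (hF : Coh.IsCoh F) (hT : TorSh.IsTorsionFree F)
    (hN : ∀ (U V : X.Opens) (hVU : V ≤ U), (∀ x : X, x ∈ U → x ∉ V → (2 : WithBot ℕ∞) ≤ ringKrullDim (X.presheaf.stalk x)) →
      Function.Bijective (F.presheaf.map (homOfLE hVU).op)) :
    RefHull.IsReflexive F := by
  haveI := hF.1
  have hinj : ∀ x, Function.Injective (toGen F x) := fun x => isTorsionFree_iff_inj F hT x
  have hb := stalk_bidual_injective hF hT
  refine (isReflexive_iff hF).2 fun x => (bijective_bidual_stalk_iff hF x).1 ⟨hb x, fun z => ?_⟩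
  obtain ⟨U, hxU, σ, rfl⟩ := TopCat.Presheaf.exists_germ_eq (RefHull.ddual F).presheaf z
  let ι : Type u := {O : X.Opens // ∃ h : O ≤ U, ∃ t : Γ(F, O),
    (RefHull.bidualMap F).app O t = (RefHull.ddual F).presheaf.map (homOfLE h).op σ}
  choose hO t ht using fun i : ι => i.2
  let V : X.Opens := iSup fun i : ι => i.1
  have hVU : V ≤ U := iSup_le hO
  have hd : ∀ y : X, y ∈ U → y ∉ V → (2 : WithBot ℕ∞) ≤ ringKrullDim (X.presheaf.stalk y) := by
    intro y hy hyV
    by_contra hlow
    obtain ⟨w, hw⟩ := ((bijective_bidual_stalk_iff hF y).2 (isReflexiveAt_of_low hX hF hT hlow)).2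
      ((RefHull.ddual F).presheaf.germ U y hy σ)
    obtain ⟨O, hyO, a, rfl⟩ := TopCat.Presheaf.exists_germ_eq F.presheaf w
    rw [stalkLin_germ] at hw
    obtain ⟨W, hyW, i₁, i₂, he⟩ := TopCat.Presheaf.germ_eq _ y hyO hy _ _ hw
    refine hyV (Opens.mem_iSup.2 ⟨⟨W, i₂.le, F.presheaf.map i₁.op a, ?_⟩, hyW⟩)
    exact (app_res (RefHull.bidualMap F) i₁.le a).trans he
  have key : ∀ (i : ι) (W : X.Opens) (h : W ≤ i.1),
      (RefHull.bidualMap F).app W (F.presheaf.map (homOfLE h).op (t i)) =
        (RefHull.ddual F).presheaf.map (homOfLE (h.trans (hO i))).op σ := fun i W h => by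
    rw [app_res, ht i, ← ConcreteCategory.comp_apply, ← Functor.map_comp]
    rfl
  obtain ⟨g, hg, -⟩ := TopCat.Sheaf.existsUnique_gluing' (⟨F.presheaf, F.isSheaf⟩ : TopCat.Sheaf Ab.{u} X.carrier)
    (fun i : ι => i.1) V (fun i => homOfLE (le_iSup (fun i : ι => i.1) i)) le_rfl t
    (fun i j => section_ext_of_generic hinj fun y hy => hb _ (by
      rw [stalkLin_germ, stalkLin_germ]
      exact congrArg _ ((key i (i.1 ⊓ j.1) inf_le_left).trans (key j (i.1 ⊓ j.1) inf_le_right).symm)))
  obtain ⟨s, hs⟩ := (hN U V hVU hd).2 g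
  refine ⟨F.presheaf.germ U x hxU s, ?_⟩
  rw [stalkLin_germ]
  refine congrArg _ ?_
  have hdd := isReflexive_dual (isCoh_dual hF)
  refine (bijective_res hX (isCoh_dual (isCoh_dual hF)) hdd U V hVU hd).1 ?_
  refine TopCat.Sheaf.eq_of_locally_eq' (⟨(RefHull.ddual F).presheaf, (RefHull.ddual F).isSheaf⟩ : TopCat.Sheaf Ab.{u} X.carrier)
    (fun i : ι => i.1) V (fun i => homOfLE (le_iSup (fun i : ι => i.1) i)) le_rfl _ _ fun i => ?_
  rw [← app_res, hs]
  refine ((app_res (RefHull.bidualMap F) (le_iSup (fun i : ι => i.1) i) g).symm.trans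
    ((congrArg _ (hg i)).trans (ht i))).trans ?_
  show _ = (RefHull.ddual F).presheaf.map _ ((RefHull.ddual F).presheaf.map _ σ)
  rw [← ConcreteCategory.comp_apply, ← Functor.map_comp]
  rfl

end Groth.Agent.NormalRefLib
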